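import Mathlib
import Cfsg.Agent.Lib.Helper74.Quad.Defs

/-!
# S2787 (Quad) package [ORD4]: `PkgOrd4`

Two elements acting on an `𝔽_p²` as `[[1, c], [0, 1]]` and `[[1, 0], [1, 1]]` give an element
acting as `[[0, 1], [-1, 0]]`, of order `4` on that plane.
-/

set_option autoImplicit false

namespace Cfsg.Agent.Lib.Helper83.Quad

open Cfsg.Agent.Lib.Helper74.Quad

universe u v

section
variable {p : ℕ} {A : Type u} [CommGroup A] {M : Type v} [Group M]
  (ρ : M →* MulAut A) (FA : Multiplicative (Fin 2 → ZMod p) →* A)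

/-- `m` acts on the image of `FA` through the map `T` of `𝔽_p²`. -/
def Acts (m : M) (T : (Fin 2 → ZMod p) → (Fin 2 → ZMod p)) : Prop :=
  ∀ z : Fin 2 → ZMod p, ρ m (FA (Multiplicative.ofAdd z)) = FA (Multiplicative.ofAdd (T z))

variable {ρ FA}

theorem Acts.mul {m m' : M} {T T' : (Fin 2 → ZMod p) → (Fin 2 → ZMod p)}
    (h : Acts ρ FA m T) (h' : Acts ρ FA m' T') : Acts ρ FA (m * m') (fun z => T (T' z)) := by
  intro z
  rw [map_mul, MulAut.mul_apply, h' z, h (T' z)]

theorem Acts.one : Acts ρ FA (1 : M) (fun z => z) := by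
  intro z
  rw [map_one, MulAut.one_apply]

theorem Acts.congr {m : M} {T T' : (Fin 2 → ZMod p) → (Fin 2 → ZMod p)}
    (h : Acts ρ FA m T) (hT : ∀ z, T z = T' z) : Acts ρ FA m T' := by
  intro z
  rw [h z, hT z]

theorem Acts.pow {m : M} {T : (Fin 2 → ZMod p) → (Fin 2 → ZMod p)}
    (h : Acts ρ FA m T) (k : ℕ) : Acts ρ FA (m ^ k) (T^[k]) := by
  induction k with
  | zero =>
    rw [pow_zero]
    exact Acts.one
  | succ k ih =>
    rw [pow_succ]
    exact (ih.mul h).congr (fun z => (Function.iterate_succ_apply T k z).symm)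

theorem Acts.inv {m : M} {T T' : (Fin 2 → ZMod p) → (Fin 2 → ZMod p)}
    (h : Acts ρ FA m T) (hT : ∀ z, T (T' z) = z) : Acts ρ FA m⁻¹ T' := by
  intro z
  have h1 := h (T' z)
  rw [hT] at h1
  rw [← h1, map_inv]
  exact MulAut.inv_apply_self _ _ _

end

theorem pkgOrd4 : Cfsg.Agent.Lib.Helper74.Quad.PkgOrd4.{u, v} := by
  intro p _ hp2 A _ M _ ρ g₁ g₂ c FA hc hinj h1 h2
  have hp : p.Prime := Fact.out
  have hc0 : (c : ZMod p) ≠ 0 := by
    rw [Ne, ZMod.natCast_eq_zero_iff]
    exact hc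
  have hx : Acts ρ FA g₁ (fun z => ![z 0 + (c : ZMod p) * z 1, z 1]) := by
    intro z
    rw [h1]
    congr 2
    ext i
    fin_cases i <;>
      simp [Cfsg.Agent.Lib.Helper51.xmat, Matrix.mulVec, dotProduct, Fin.sum_univ_two]
  have hy : Acts ρ FA g₂ (fun z => ![z 0, z 0 + z 1]) := by
    intro z
    rw [h2]
    congr 2
    ext i
    fin_cases i <;>
      simp [Cfsg.Agent.Lib.Helper51.ymat, Matrix.mulVec, dotProduct, Fin.sum_univ_two]
  have hy' : Acts ρ FA g₂⁻¹ (fun z => ![z 0, z 1 - z 0]) := by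
    refine hy.inv ?_
    intro z
    ext i
    fin_cases i <;> simp
  have hxn : ∀ n : ℕ, Acts ρ FA (g₁ ^ n)
      (fun z => ![z 0 + (n : ZMod p) * (c : ZMod p) * z 1, z 1]) := by
    intro n
    induction n with
    | zero =>
      rw [pow_zero]
      refine Acts.one.congr ?_
      intro z
      ext i
      fin_cases i <;> simp
    | succ n ih =>
      rw [pow_succ]
      refine (ih.mul hx).congr ?_
      intro z
      ext i
      fin_cases i
      · simp
        ring
      · simp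
  obtain ⟨d, hd⟩ : ∃ d : ℕ, (d : ZMod p) * (c : ZMod p) = 1 := by
    refine ⟨((c : ZMod p)⁻¹).val, ?_⟩
    rw [ZMod.natCast_zmod_val, inv_mul_cancel₀ hc0]
  have hxd : Acts ρ FA (g₁ ^ d) (fun z => ![z 0 + z 1, z 1]) := by
    refine (hxn d).congr ?_
    intro z
    rw [hd, one_mul]
  have hw : Acts ρ FA (g₁ ^ d * g₂⁻¹ * g₁ ^ d) (fun z => ![z 1, - z 0]) := by
    refine ((hxd.mul hy').mul hxd).congr ?_
    intro z
    ext i
    fin_cases i <;> simp
  refine ⟨g₁ ^ d * g₂⁻¹ * g₁ ^ d, ?_⟩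
  intro k hk
  have hwk := (hw.pow k) ![1, 0]
  rw [hk, MulAut.one_apply] at hwk
  have hfix : (fun z : Fin 2 → ZMod p => ![z 1, - z 0])^[k] ![1, 0] = ![1, 0] :=
    (Multiplicative.ofAdd.injective (hinj hwk)).symm
  have horb : ∀ n : ℕ,
      (n % 4 = 0 → (fun z : Fin 2 → ZMod p => ![z 1, - z 0])^[n] ![1, 0] = ![1, 0]) ∧
      (n % 4 = 1 → (fun z : Fin 2 → ZMod p => ![z 1, - z 0])^[n] ![1, 0] = ![0, -1]) ∧
      (n % 4 = 2 → (fun z : Fin 2 → ZMod p => ![z 1, - z 0])^[n] ![1, 0] = ![-1, 0]) ∧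
      (n % 4 = 3 → (fun z : Fin 2 → ZMod p => ![z 1, - z 0])^[n] ![1, 0] = ![0, 1]) := by
    intro n
    induction n with
    | zero =>
      refine ⟨fun _ => rfl, fun h => ?_, fun h => ?_, fun h => ?_⟩ <;> omega
    | succ n ih =>
      obtain ⟨ih0, ih1, ih2, ih3⟩ := ih
      refine ⟨fun h => ?_, fun h => ?_, fun h => ?_, fun h => ?_⟩
      · rw [Function.iterate_succ_apply', ih3 (by omega)]
        ext i
        fin_cases i <;> simp
      · rw [Function.iterate_succ_apply', ih0 (by omega)]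
        ext i
        fin_cases i <;> simp
      · rw [Function.iterate_succ_apply', ih1 (by omega)]
        ext i
        fin_cases i <;> simp
      · rw [Function.iterate_succ_apply', ih2 (by omega)]
        ext i
        fin_cases i <;> simp
  have h01 : (0 : ZMod p) ≠ 1 := zero_ne_one
  have hm1 : (-1 : ZMod p) ≠ 1 := by
    intro h
    have h2' : ((2 : ℕ) : ZMod p) = 0 := by
      have h3 : (1 : ZMod p) + 1 = 0 := by
        nth_rewrite 1 [← h]
        exact neg_add_cancel 1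
      rw [← h3]
      norm_num
    rw [ZMod.natCast_eq_zero_iff] at h2'
    exact hp2 ((Nat.prime_dvd_prime_iff_eq hp Nat.prime_two).mp h2')
  obtain ⟨o0, o1, o2, o3⟩ := horb k
  have hlt : k % 4 < 4 := Nat.mod_lt k (by norm_num)
  have hk0 : k % 4 = 0 := by
    by_contra hne
    have hcases : k % 4 = 1 ∨ k % 4 = 2 ∨ k % 4 = 3 := by omega
    rcases hcases with h | h | h
    · have h5 := (o1 h).symm.trans hfix
      have h6 := congrFun h5 0
      simp at h6
    · have h5 := (o2 h).symm.trans hfix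
      have h6 := congrFun h5 0
      simp at h6
      exact hm1 h6
    · have h5 := (o3 h).symm.trans hfix
      have h6 := congrFun h5 0
      simp at h6
  exact Nat.dvd_of_mod_eq_zero hk0

end Cfsg.Agent.Lib.Helper83.Quad
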